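import Cfsg.Agent.H39.Fi22C.Basic
import Cfsg.Agent.H38.U6C.Main
import Cfsg.Agent.H50.Simple

/-!
Without swap: a live involution `a` of the centre of the core which is isolated is central, and
the second alternative holds.
-/

set_option autoImplicit false

namespace H35.Fi22C

open H39.Fi22C

/-- Inversion by an involution without fixed points on a subgroup of odd order. -/
theorem inv_of_fpf {G : Type*} [Group G] [Finite G] {N : Subgroup G} [N.Normal] {e : G}
    (he : e * e = 1) (hfix : ∀ n ∈ N, Commute n e → n = 1) :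
    ∀ n ∈ N, e * n * e⁻¹ = n⁻¹ := by
  have hei : e⁻¹ = e := inv_eq_of_mul_eq_one_right he
  have hn' : ∀ n : N, (n : G)⁻¹ * (e * n * e⁻¹) ∈ N := fun n =>
    N.mul_mem (N.inv_mem n.2) (‹N.Normal›.conj_mem _ n.2 e)
  have hinj : Function.Injective fun n : N => (⟨_, hn' n⟩ : N) := by
    intro n k h
    have h' : (n : G)⁻¹ * (e * n * e⁻¹) = (k : G)⁻¹ * (e * k * e⁻¹) := congrArg Subtype.val h
    have h2 := congrArg (fun x => (k : G) * x * (e * n * e⁻¹)⁻¹) h'
    have h3 : (k : G) * (n : G)⁻¹ = e * ((k : G) * (n : G)⁻¹) * e⁻¹ := by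
      calc (k : G) * (n : G)⁻¹ = k * ((n : G)⁻¹ * (e * n * e⁻¹)) * (e * n * e⁻¹)⁻¹ := by group
        _ = k * ((k : G)⁻¹ * (e * k * e⁻¹)) * (e * n * e⁻¹)⁻¹ := h2
        _ = _ := by group
    refine Subtype.ext (mul_inv_eq_one.1 (hfix _ (N.mul_mem k.2 (N.inv_mem n.2)) ?_)).symm
    exact eq_mul_inv_iff_mul_eq.1 h3
  intro n hn
  obtain ⟨k, hk⟩ := (Finite.injective_iff_surjective.1 hinj) ⟨n, hn⟩
  have hk' : (k : G)⁻¹ * (e * k * e⁻¹) = n := congrArg Subtype.val hk
  rw [← hk']
  calc e * ((k : G)⁻¹ * (e * k * e⁻¹)) * e⁻¹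
      = e * (k : G)⁻¹ * e⁻¹ * ((e * e) * k * (e * e)⁻¹) := by group
    _ = ((k : G)⁻¹ * (e * k * e⁻¹))⁻¹ := by rw [he]; group

/-- An element of odd order lies in every subgroup containing its square. -/
theorem mem_of_sq {G : Type*} [Group G] {N H : Subgroup G} (hodd : Odd (Nat.card N)) {n : G}
    (hn : n ∈ N) (h : n * n ∈ H) : n ∈ H := by
  obtain ⟨k, hk⟩ := hodd
  have h1 : n ^ Nat.card N = 1 :=
    congrArg Subtype.val (pow_card_eq_one' (x := (⟨n, hn⟩ : N)))
  have h2 := H.pow_mem h (k + 1)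
  rwa [← pow_two, ← pow_mul, show 2 * (k + 1) = Nat.card N + 1 by omega, pow_succ, h1,
    one_mul] at h2

theorem sq_eq_one {G : Type*} [Group G] {N : Subgroup G} (hodd : Odd (Nat.card N)) {n : G}
    (hn : n ∈ N) (h : n * n = 1) : n = 1 :=
  Subgroup.mem_bot.1 (mem_of_sq (H := ⊥) hodd hn (Subgroup.mem_bot.2 h))

/-- The second alternative from an isolated live involution. -/
theorem endN.{u, v, w} : EndNStmt.{u, v, w} := by
  intro G _ _ F _ _ K _ _ hK z a J H₀ π S _ hlive hiso
  classical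
  obtain ⟨X₀, hXa, hidx, hXz, f, hf, hfk⟩ := hlive
  have hsimple : IsSimpleGroup (Cfsg.PSU 6 K 2) :=
    H50.PSU_isSimple (by rw [hK]; norm_num) (by norm_num) (by norm_num)
  have hH₀ : H₀ ≤ X₀ := hXz ▸ inf_le_left
  have hzX : z ∈ X₀ := hH₀ (S.J_le S.z_mem)
  have haX : a ∈ X₀ := hH₀ (S.J_le S.a_mem)
  have hcen : ∀ x ∈ X₀, Commute x a := fun x hx =>
    Subgroup.mem_centralizer_singleton_iff.1 (hXa hx)
  have hza : Commute z a := hcen z hzX
  have hfz : f ⟨z, hzX⟩ ≠ 1 := fun h => by
    rcases (hfk _).1 h with h1 | h1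
    · exact S.ne_one h1
    · exact S.a_out.2 h1.symm
  have hord : orderOf a = 2 := by
    have : Fact (Nat.Prime 2) := ⟨Nat.prime_two⟩
    exact orderOf_eq_prime (by rw [pow_two, S.a_sq]) S.a_out.1
  -- `G` is the centraliser times the odd core
  have hwc : H38.U6C.WC a := fun x hx hc => by
    obtain ⟨g, rfl⟩ := isConj_iff.1 hc
    exact hiso g (Subgroup.mem_centralizer_singleton_iff.1 hx)
  have htop := H38.U6C.mul_core_of_wc hord hwc
  set N := Cfsg.oddCore G with hN
  have hNn : N.Normal := H1.pPrimeCore_normal' 2 G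
  have hodd : Odd (Nat.card N) := Nat.coprime_two_right.1 (H1.card_pPrimeCore_coprime 2 G)
  -- no fixed points of `z`
  have hz1 : ∀ n ∈ N, Commute n z → n = 1 := by
    intro n hn hc
    have hcop : (Nat.card N).Coprime (Nat.card J) := by
      rw [S.card_J]
      exact Nat.Coprime.pow_right _ (Nat.coprime_two_right.2 hodd)
    have hNJ : ∀ x, x ∈ N → x ∈ J → x = 1 := fun x h1 h2 => by
      have hx : x ∈ N ⊓ J := ⟨h1, h2⟩
      rwa [Subgroup.inf_eq_bot_of_coprime hcop, Subgroup.mem_bot] at hx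
    have hnC : n ∈ Subgroup.centralizer ({z} : Set G) :=
      Subgroup.mem_centralizer_singleton_iff.2 hc.eq
    refine hNJ n hn (S.self_cent n hnC fun j hj => ?_)
    have h1 := hNJ (n * j * n⁻¹ * j⁻¹) ?_ (J.mul_mem (S.conj_mem n hnC j hj) (J.inv_mem hj))
    · rw [mul_inv_eq_one, mul_inv_eq_iff_eq_mul] at h1
      exact h1
    · rw [show n * j * n⁻¹ * j⁻¹ = n * (j * n⁻¹ * j⁻¹) by group]
      exact N.mul_mem hn (hNn.conj_mem _ (N.inv_mem hn) j)
  -- no fixed points of `a`
  have ha1 : ∀ n ∈ N, Commute n a → n = 1 := by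
    intro n hn hc
    have hnX : n ∈ X₀ := by
      refine mem_of_sq hodd hn ?_
      have hnC : n ∈ Subgroup.centralizer ({a} : Set G) :=
        Subgroup.mem_centralizer_singleton_iff.2 hc.eq
      exact (Subgroup.mul_mem_iff_of_index_two hidx (a := ⟨n, hnC⟩) (b := ⟨n, hnC⟩)).2 Iff.rfl
    have hMn : ((N.subgroupOf X₀).map f).Normal :=
      (H1.subgroupOf_normal N X₀).map f hf
    rcases hsimple.eq_bot_or_eq_top_of_normal _ hMn with h | h
    · have h1 : f ⟨n, hnX⟩ ∈ (N.subgroupOf X₀).map f := ⟨_, hn, rfl⟩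
      rw [h, Subgroup.mem_bot, hfk] at h1
      rcases h1 with h1 | h1
      · exact h1
      · exact sq_eq_one hodd hn (by rw [show n = a from h1, S.a_sq])
    · exfalso
      obtain ⟨x, hx, hxz⟩ : f ⟨z, hzX⟩ ∈ (N.subgroupOf X₀).map f := h ▸ Subgroup.mem_top _
      apply hfz
      have h2 : f x * f x = 1 := by
        rw [hxz, ← map_mul, ← map_one f]
        exact congrArg f (Subtype.ext S.sq)
      have hxx : (x : G) * x ∈ ((f.ker).map X₀.subtype) :=
        ⟨x * x, show f (x * x) = 1 by rw [map_mul, h2], rfl⟩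
      obtain ⟨y, hy, hyx⟩ := mem_of_sq (H := (f.ker).map X₀.subtype) hodd hx hxx
      rw [← hxz, ← Subtype.ext (a2 := x) hyx]
      exact hy
  have hzi := inv_of_fpf S.sq hz1
  have hai := inv_of_fpf S.a_sq ha1
  -- the kernel of the action on the odd core
  set L : Subgroup X₀ := (Subgroup.centralizer (N : Set G)).subgroupOf X₀ with hL
  have hLn : L.Normal := H1.subgroupOf_normal _ X₀
  have hazL : (⟨a, haX⟩ * ⟨z, hzX⟩ : X₀) ∈ L := by
    rw [hL, Subgroup.mem_subgroupOf, Subgroup.mem_centralizer_iff]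
    intro n hn
    show n * (a * z) = a * z * n
    have h1 : a * z * n * (a * z)⁻¹ = n := by
      rw [show a * z * n * (a * z)⁻¹ = a * (z * n * z⁻¹) * a⁻¹ by group, hzi n hn,
        hai _ (N.inv_mem hn), inv_inv]
    exact (mul_inv_eq_iff_eq_mul.1 h1).symm
  have hLtop : L.map f = ⊤ := by
    refine (hsimple.eq_bot_or_eq_top_of_normal _ (hLn.map f hf)).resolve_left fun h => hfz ?_
    have h1 : f (⟨a, haX⟩ * ⟨z, hzX⟩) ∈ L.map f := ⟨_, hazL, rfl⟩
    rwa [h, Subgroup.mem_bot, map_mul, (hfk ⟨a, haX⟩).2 (Or.inr rfl), one_mul] at h1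
  have hsplit : ∀ x ∈ X₀, ∃ k s : G, x = k * s ∧ (s = 1 ∨ s = a) ∧
      k ∈ Subgroup.centralizer (N : Set G) ∧ k ∈ X₀ := by
    intro x hx
    obtain ⟨k, hk, hkx⟩ : f ⟨x, hx⟩ ∈ L.map f := hLtop ▸ Subgroup.mem_top _
    refine ⟨k, (k : G)⁻¹ * x, by group, ?_, hk, k.2⟩
    exact (hfk (k⁻¹ * ⟨x, hx⟩)).1 (by rw [map_mul, map_inv, hkx, inv_mul_cancel])
  have hNbot : N = ⊥ := by
    obtain ⟨p, hp, q, hq, hpq⟩ : ∃ p ∈ J, ∃ q ∈ J, p * q = q * p * z := by
      by_contra hall
      have hle : (J : Set G) ⊆ ↑({1, z, a, a * z} : Finset G) := fun p hp => by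
        simp only [Finset.coe_insert, Finset.coe_singleton, Set.mem_insert_iff,
          Set.mem_singleton_iff]
        exact S.center p hp fun q hq =>
          (S.comm_mem p hp q hq).resolve_right fun h => hall ⟨p, hp, q, hq, h⟩
      have h1 := Set.ncard_le_ncard hle (Finset.finite_toSet _)
      rw [← Nat.card_coe_set_eq, Set.ncard_coe_finset] at h1
      have h2 : Finset.card ({1, z, a, a * z} : Finset G) ≤ 4 := Finset.card_le_four
      have h3 : Nat.card (J : Set G) = 2 ^ 10 := S.card_J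
      omega
    obtain ⟨k, s, hks, hs, hkN, hkX⟩ := hsplit p (hH₀ (S.J_le hp))
    obtain ⟨l, t, hlt, ht, hlN, hlX⟩ := hsplit q (hH₀ (S.J_le hq))
    have hzN : z ∈ Subgroup.centralizer (N : Set G) := by
      have hcs : ∀ x ∈ X₀, Commute s x ∧ Commute t x := fun x hx =>
        ⟨by rcases hs with rfl | rfl <;> [exact Commute.one_left x; exact (hcen x hx).symm],
          by rcases ht with rfl | rfl <;> [exact Commute.one_left x; exact (hcen x hx).symm]⟩
      have hst : Commute s t := by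
        rcases hs with rfl | rfl
        · exact Commute.one_left t
        · rcases ht with rfl | rfl
          · exact Commute.one_right _
          · exact Commute.refl _
      have e : z = k⁻¹ * l⁻¹ * k * l := by
        have h1 : k * s * (l * t) = l * t * (k * s) * z := by rw [← hks, ← hlt]; exact hpq
        have h2 : k * l * (s * t) = l * k * (t * s) * z := by
          calc k * l * (s * t) = k * (l * s) * t := by group
            _ = k * (s * l) * t := by rw [(hcs l hlX).1.eq]
            _ = k * s * (l * t) := by group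
            _ = l * t * (k * s) * z := h1
            _ = l * (t * k) * s * z := by group
            _ = l * (k * t) * s * z := by rw [(hcs k hkX).2.eq]
            _ = _ := by group
        have hsz : Commute (s * t) z := ((hcs z hzX).1).mul_left (hcs z hzX).2
        have h3 : k * l = l * k * z := by
          refine mul_right_cancel (b := s * t) ?_
          rw [h2, ← hst.eq, mul_assoc (l * k), hsz.eq, ← mul_assoc (l * k)]
        rw [mul_assoc (k⁻¹ * l⁻¹), h3]
        group
      rw [e]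
      exact mul_mem (mul_mem (mul_mem (inv_mem hkN) (inv_mem hlN)) hkN) hlN
    refine eq_bot_iff.2 fun n hn => Subgroup.mem_bot.2 (sq_eq_one hodd hn ?_)
    have h1 := Subgroup.mem_centralizer_iff.1 hzN n hn
    have h2 := hzi n hn
    rw [← h1, mul_inv_cancel_right] at h2
    exact mul_eq_one_iff_eq_inv.2 h2
  rw [hNbot, sup_bot_eq] at htop
  have hall : ∀ g : G, Commute g a := fun g =>
    Subgroup.mem_centralizer_singleton_iff.1 (htop ▸ Subgroup.mem_top g)
  have hconj : ∀ n ∈ Subgroup.zpowers a, ∀ g : G, g * n * g⁻¹ = n := by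
    rintro _ ⟨i, rfl⟩ g
    show g * a ^ i * g⁻¹ = a ^ i
    rw [((hall g).zpow_right i).eq, mul_inv_cancel_right]
  have hn : (Subgroup.zpowers a).Normal := ⟨fun n hn g => by rwa [hconj n hn g]⟩
  refine ⟨hn, X₀, haX, ?_, H1.subgroupOf_normal _ _, ?_⟩
  · have h1 := Subgroup.relIndex_mul_index hXa
    rw [htop, Subgroup.index_top, mul_one] at h1
    rw [← h1, ← htop]
    exact hidx
  · have := H1.subgroupOf_normal (Subgroup.zpowers a) X₀
    refine ⟨(QuotientGroup.quotientMulEquivOfEq ?_).trans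
      (QuotientGroup.quotientKerEquivOfSurjective f hf)⟩
    ext x
    rw [Subgroup.mem_subgroupOf, MonoidHom.mem_ker, hfk]
    constructor
    · intro hx
      obtain ⟨i, hi⟩ := hx
      have hi' : a ^ i = (x : G) := hi
      rcases Int.even_or_odd i with ⟨j, rfl⟩ | ⟨j, rfl⟩
      · left
        rw [← hi', zpow_add, ← (Commute.refl a).mul_zpow, S.a_sq, one_zpow]
      · right
        rw [← hi', zpow_add, two_mul, zpow_add, ← (Commute.refl a).mul_zpow, S.a_sq, one_zpow,
          one_mul, zpow_one]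
    · rintro (h | h) <;> rw [h]
      · exact one_mem _
      · exact Subgroup.mem_zpowers a

end H35.Fi22C
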