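import Cfsg.Agent.H35.U6E.Ext
import Cfsg.Agent.H50.Fi22C.Quot
import Cfsg.Agent.H46.U6C.Fix8Main
import Cfsg.Agent.H38.Fi22C.NonConj
import Cfsg.Agent.H64.Fi22C.Defs

/-!
The centraliser `(2 × 2^(1+8)).U₄(2).2` with two fixed dimensions, read on the model: coordinates
of the inner half modulo `⟨a⟩` and their extension to the whole centraliser.
-/

set_option autoImplicit false
set_option maxRecDepth 100000
set_option linter.unusedSectionVars false

namespace H35.Fi22C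

open H38.U6C H39.Fi22C H50.Fi22C H35.U6E
open H50.U6C (vadd_self vadd_zero')

universe u v

variable {G : Type u} [Group G] [Finite G] {F : Type v} [Field F] [Fintype F] {z a : G}
  {J H₀ U : Subgroup G} {π : ↥H₀ →* Cfsg.PSp 2 F}

theorem pr_four (S : Setup3 z a J H₀ π) [(aSub S).Normal] (x : ↥H₀) :
    (pr S x = 1 ∨ pr S x = pr S ⟨z, S.J_le S.z_mem⟩) ↔
      ((x : G) = 1 ∨ (x : G) = z ∨ (x : G) = a ∨ (x : G) = a * z) := by
  have hza : z * a = a * z := (S.a_H₀ z (S.J_le S.z_mem)).eq.symm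
  rw [← map_one (pr S), eq_comm, @eq_comm _ (pr S x) (pr S ⟨z, _⟩), pr_eq S, pr_eq S,
    Subgroup.coe_one, one_mul, Subtype.coe_mk, hza]
  tauto

theorem mem_core (S : Setup3 z a J H₀ π) [(aSub S).Normal] (x : ↥H₀) :
    pr S x ∈ (J.subgroupOf H₀).map (pr S) ↔ (x : G) ∈ J := by
  refine ⟨?_, fun hx => ⟨x, hx, rfl⟩⟩
  rintro ⟨y, hy, hyx⟩
  rcases (pr_eq S).1 hyx with h | h <;> rw [h]
  exacts [hy, mul_mem hy S.a_mem]

/-- The fixed dimensions in the quotient by `⟨a⟩`. -/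
theorem fixed2_quot (S : Setup3 z a J H₀ π) [(aSub S).Normal] (hU : FixJ z a J H₀ U) :
    Fixed2 (pr S ⟨z, S.J_le S.z_mem⟩) ((J.subgroupOf H₀).map (pr S))
      ((U.subgroupOf H₀).map (pr S)) := by
  have hUH : ∀ {u : G}, u ∈ U → u ∈ H₀ := fun hu => S.J_le (hU.le hu)
  refine ⟨?_, ⟨_, hU.z_mem, rfl⟩, ?_, ?_, ?_⟩
  · rintro _ ⟨x, hx, rfl⟩
    exact ⟨x, hU.le hx, rfl⟩
  · let f : ↥(U.subgroupOf H₀) →* Q S := (pr S).comp (Subgroup.subtype _)
    have hr : f.range = (U.subgroupOf H₀).map (pr S) := by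
      rw [MonoidHom.range_comp, Subgroup.range_subtype]
    have hk : Nat.card f.ker = 2 := by
      have e : Set.range (fun x : f.ker => (((x : ↥(U.subgroupOf H₀)) : ↥H₀) : G)) = {1, a} := by
        ext x
        simp only [Set.mem_range, Set.mem_insert_iff, Set.mem_singleton_iff]
        constructor
        · rintro ⟨⟨y, hy⟩, rfl⟩
          exact (mem_aSub S).1 ((QuotientGroup.eq_one_iff _).1 hy)
        · rintro (rfl | rfl)
          · exact ⟨1, rfl⟩
          · exact ⟨⟨⟨⟨x, S.J_le S.a_mem⟩, hU.a_mem⟩,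
              (QuotientGroup.eq_one_iff _).2 ((mem_aSub S).2 (Or.inr rfl))⟩, rfl⟩
      have e' := congrArg Set.ncard e
      rwa [Set.ncard_pair S.a_out.1.symm, ← Nat.card_coe_set_eq,
        Nat.card_range_of_injective (fun p q hpq => Subtype.ext (Subtype.ext (Subtype.ext hpq)))]
        at e'
    have h1 := Subgroup.card_mul_index f.ker
    rw [Subgroup.index_ker, hr, hk,
      Nat.card_congr (Subgroup.subgroupOfEquivOfLe fun u hu => hUH hu).toEquiv, hU.card] at h1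
    omega
  · rintro _ ⟨x, hx, rfl⟩ hc
    refine (pr_four S x).2 (hU.nondeg x hx fun v hv => ?_)
    have h := hc _ ⟨⟨v, hUH hv⟩, hv, rfl⟩
    rw [commute_iff_eq, ← map_mul, ← map_mul, pr_eq S] at h
    rcases S.comm_mem x (hU.le hx) v (hU.le hv) with e | e
    · exact e
    · exfalso
      rcases h with h | h
      · have h' : v * (x : G) = (x : G) * v := h
        rw [e, left_eq_mul] at h'
        exact S.ne_one h'
      · have h' : v * (x : G) = (x : G) * v * a := h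
        rw [e, mul_assoc, left_eq_mul] at h'
        refine az_ne S ?_
        rw [(S.a_H₀ z (S.J_le S.z_mem)).eq]
        exact h'
  · intro g _ u hu
    obtain ⟨x, hx, rfl⟩ := hu
    obtain ⟨y, rfl⟩ := QuotientGroup.mk'_surjective (aSub S) g
    have h := (pr_four S (x⁻¹ * (y * x * y⁻¹))).2 (hU.fix y y.2 x hx)
    rw [map_mul, map_mul, map_mul, map_inv, map_inv, inv_mul_eq_one, inv_mul_eq_iff_eq_mul] at h
    exact h.imp_left Eq.symm

/-- Coordinates from the data of S3232 with two fixed dimensions. -/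
theorem coord : H64.Fi22C.CoordStmt.{u, v} := by
  classical
  intro G _ _ F _ _ z a J H₀ U π S hU hda hdaz
  have := aSub_normal S
  obtain ⟨π', hB⟩ := base_quot S
  have hU₂ := fixed2_quot S hU
  set zq := pr S ⟨z, S.J_le S.z_mem⟩ with hzq
  obtain ⟨m, φ₀, ρ₀, N⟩ := H46.U6C.fix8 hB hU₂
  have hsurj : ∀ q, ∃ x : ↥H₀, pr S x = q := QuotientGroup.mk'_surjective _
  set C := Subgroup.centralizer ({z} : Set G) with hC
  have hzC : ∀ g : C, z * (g : G) = g * z := fun g => Subgroup.mem_centralizer_iff.1 g.2 z rfl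
  have hall : ∀ q : Q S, q ∈ Subgroup.centralizer ({zq} : Set (Q S)) := fun q => by
    obtain ⟨x, rfl⟩ := hsurj q
    exact Subgroup.mem_centralizer_singleton_iff.2 ((Commute.map (show Commute
      (⟨z, S.J_le S.z_mem⟩ : ↥H₀) x from Subtype.ext (hzC ⟨x, S.le_cent x.2⟩)) (pr S)).eq.symm)
  have hm : ∀ {p : G} (hp : p ∈ J), pr S ⟨p, S.J_le hp⟩ ∈ (J.subgroupOf H₀).map (pr S) :=
    fun hp => (mem_core S _).2 hp
  let φ : G → V := fun g => if h : g ∈ H₀ then φ₀ (pr S ⟨g, h⟩) else 0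
  have hφ : ∀ (p : G) (hp : p ∈ J), φ p = φ₀ (pr S ⟨p, S.J_le hp⟩) := fun p hp => dif_pos _
  have φ_mul : ∀ p ∈ J, ∀ q ∈ J, φ (p * q) = vadd (φ p) (φ q) := fun p hp q hq => by
    rw [hφ _ (mul_mem hp hq), hφ p hp, hφ q hq, ← N.φ_mul _ (hm hp) _ (hm hq), ← map_mul]
    rfl
  have φ_surj : ∀ v, ∃ p ∈ J, φ p = v := fun v => by
    obtain ⟨_, ⟨x, hx, rfl⟩, rfl⟩ := N.φ_surj v
    exact ⟨x, hx, hφ x hx⟩
  have φ_ker : ∀ p ∈ J, (φ p = 0 ↔ p = 1 ∨ p = z ∨ p = a ∨ p = a * z) := fun p hp => by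
    rw [hφ p hp, N.φ_ker _ (hm hp)]
    exact pr_four S ⟨p, S.J_le hp⟩
  have zq_ne : zq ≠ 1 := hB.ne_one
  have φ_sq : ∀ p ∈ J, p * p = if q8 m (φ p) then z else 1 := fun p hp => by
    have h := N.φ_sq _ (hm hp)
    rw [← map_mul] at h
    rw [hφ p hp]
    rcases S.sq_mem p hp with e | e <;>
      cases hq : q8 m (φ₀ (pr S ⟨p, S.J_le hp⟩)) <;> rw [hq] at h <;>
      simp only [Bool.false_eq_true, if_false, if_true] at h ⊢
    · exact e
    · rw [show (⟨p, S.J_le hp⟩ * ⟨p, S.J_le hp⟩ : ↥H₀) = 1 from Subtype.ext e, map_one] at h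
      exact absurd h.symm zq_ne
    · rw [show (⟨p, S.J_le hp⟩ * ⟨p, S.J_le hp⟩ : ↥H₀) = ⟨z, S.J_le S.z_mem⟩ from
        Subtype.ext e] at h
      exact absurd h zq_ne
    · exact e
  have φ_comm : ∀ p ∈ J, ∀ q ∈ J, p * q = q * p * if pol8 m (φ p) (φ q) then z else 1 :=
    fun p hp q hq => by
      have h := N.φ_comm _ (hm hp) _ (hm hq)
      rw [← map_mul, ← map_mul] at h
      rw [hφ p hp, hφ q hq]
      rcases S.comm_mem p hp q hq with e | e <;>
        cases hp' : pol8 m (φ₀ (pr S ⟨p, S.J_le hp⟩)) (φ₀ (pr S ⟨q, S.J_le hq⟩)) <;>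
        rw [hp'] at h <;> simp only [Bool.false_eq_true, if_false, if_true, mul_one] at h ⊢
      · exact e
      · rw [show (⟨p, S.J_le hp⟩ * ⟨q, S.J_le hq⟩ : ↥H₀) = ⟨q, S.J_le hq⟩ * ⟨p, S.J_le hp⟩ from
          Subtype.ext e, left_eq_mul] at h
        exact absurd h zq_ne
      · rw [show (⟨p, S.J_le hp⟩ * ⟨q, S.J_le hq⟩ : ↥H₀) =
          ⟨q, S.J_le hq⟩ * ⟨p, S.J_le hp⟩ * ⟨z, S.J_le S.z_mem⟩ from Subtype.ext e, map_mul,
          mul_eq_left] at h
        exact absurd h zq_ne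
      · exact e
  have φ_one : φ 1 = 0 := (φ_ker 1 (one_mem J)).2 (Or.inl rfl)
  have φ_inv : ∀ p ∈ J, φ p⁻¹ = φ p := fun p hp => by
    refine eq_of_vadd_zero ?_
    rw [← φ_mul _ (inv_mem hp) _ hp, inv_mul_cancel, φ_one]
  choose lift hlift hlφ using φ_surj
  have conj_φ : ∀ g : C, ∀ p ∈ J, ∀ q ∈ J, φ p = φ q →
      φ ((g : G) * p * (g : G)⁻¹) = φ ((g : G) * q * (g : G)⁻¹) := by
    intro g p hp q hq h
    have hd : φ (q⁻¹ * p) = 0 := by rw [φ_mul _ (inv_mem hq) _ hp, φ_inv q hq, h, vadd_self]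
    have hdJ := mul_mem (inv_mem hq) hp
    have h' : φ ((g : G) * (q⁻¹ * p) * (g : G)⁻¹) = 0 := by
      refine (φ_ker _ (S.conj_mem g g.2 _ hdJ)).2 ?_
      exact H38.Fi22C.inW_conj S ((φ_ker _ hdJ).1 hd) g.2
    rw [show (g : G) * p * (g : G)⁻¹ =
      (g : G) * q * (g : G)⁻¹ * ((g : G) * (q⁻¹ * p) * (g : G)⁻¹) by group,
      φ_mul _ (S.conj_mem g g.2 q hq) _ (S.conj_mem g g.2 _ hdJ), h', vadd_zero']
  let act : C → V → V := fun g v => φ ((g : G) * lift v * (g : G)⁻¹)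
  have act_φ : ∀ (g : C) (j : G), j ∈ J → φ ((g : G) * j * (g : G)⁻¹) = act g (φ j) :=
    fun g j hj => conj_φ g j hj _ (hlift _) (hlφ _).symm
  have act_mul : ∀ g h : C, ∀ v, act (g * h) v = act g (act h v) := fun g h v => by
    show φ (((g * h : C) : G) * lift v * ((g * h : C) : G)⁻¹) =
      act g (φ ((h : G) * lift v * (h : G)⁻¹))
    rw [← act_φ g _ (S.conj_mem h h.2 _ (hlift v))]
    congr 1
    rw [Subgroup.coe_mul]
    group
  have act_one : ∀ v, act 1 v = v := fun v => by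
    show φ ((1 : C) * lift v * ((1 : C) : G)⁻¹) = v
    simp [hlφ]
  let ρ : C →* Equiv.Perm V :=
    { toFun := fun g => ⟨act g, act g⁻¹, fun v => by rw [← act_mul, inv_mul_cancel, act_one],
        fun v => by rw [← act_mul, mul_inv_cancel, act_one]⟩
      map_one' := Equiv.ext act_one
      map_mul' := fun g h => Equiv.ext (act_mul g h) }
  have ρ_φ : ∀ (g : C) (j : G), j ∈ J → φ ((g : G) * j * (g : G)⁻¹) = ρ g (φ j) := act_φ
  -- additive isometries
  have hiso : ∀ g : C, IsIso m (ρ g) := fun g => by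
    refine ⟨fun p q => ?_, fun p => ?_⟩
    · rw [← hlφ p, ← hlφ q, ← φ_mul _ (hlift p) _ (hlift q),
        ← ρ_φ g _ (mul_mem (hlift p) (hlift q)), ← ρ_φ g _ (hlift p), ← ρ_φ g _ (hlift q),
        ← φ_mul _ (S.conj_mem g g.2 _ (hlift p)) _ (S.conj_mem g g.2 _ (hlift q))]
      congr 1
      group
    · have h1 := φ_sq _ (S.conj_mem g g.2 _ (hlift p))
      have h2 := φ_sq _ (hlift p)
      rw [show (g : G) * lift p * (g : G)⁻¹ * ((g : G) * lift p * (g : G)⁻¹) =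
        (g : G) * (lift p * lift p) * (g : G)⁻¹ by group, h2, ρ_φ g _ (hlift p), hlφ] at h1
      cases hq : q8 m p <;> cases hq' : q8 m (ρ g p) <;> simp [hq, hq', ← hzC g] at h1 ⊢
      · exact S.ne_one h1.symm
      · exact S.ne_one h1
  -- on the subgroup of index two
  have ρ₀_eq : ∀ (g : C) (hg : (g : G) ∈ H₀), ρ g = ρ₀ ⟨pr S ⟨g, hg⟩, hall _⟩ := fun g hg =>
    Equiv.ext fun v => by
      obtain ⟨_, ⟨x, hx, rfl⟩, rfl⟩ := N.φ_surj v
      rw [← N.ρ_φ _ _ (mem_core S x |>.2 hx), ← hφ x hx, ← ρ_φ g x hx,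
        hφ _ (S.conj_mem g g.2 x hx)]
      show φ₀ _ = φ₀ (pr S ⟨g, hg⟩ * pr S x * (pr S ⟨g, hg⟩)⁻¹)
      rw [← map_inv, ← map_mul, ← map_mul]
      rfl
  have range₀ : (H₀.subgroupOf C).map ρ = oGroup := by
    rw [← N.ρ_range]
    ext f
    constructor
    · rintro ⟨g, hg, rfl⟩
      exact ⟨_, (ρ₀_eq g hg).symm⟩
    · rintro ⟨⟨q, hq⟩, rfl⟩
      obtain ⟨⟨x, hx⟩, rfl⟩ := hsurj q
      exact ⟨⟨x, S.le_cent hx⟩, hx, ρ₀_eq _ hx⟩
  have ker₀ : ∀ g : C, (g : G) ∈ H₀ → (ρ g = 1 ↔ (g : G) ∈ J) := fun g hg => by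
    rw [ρ₀_eq g hg, N.ρ_ker]
    exact mem_core S ⟨g, hg⟩
  have hlift₀ : ∀ x ∈ oGroup, ∃ h : C, (h : G) ∈ H₀ ∧ ρ h = x := fun x hx => by
    rw [← range₀] at hx
    exact hx
  have memo : ∀ g : C, (g : G) ∈ H₀ → ρ g ∈ oGroup := fun g hg => range₀ ▸ ⟨g, hg, rfl⟩
  have hgood : ∀ x, Good x → IsIso m x := by
    have hsub : ∀ x ∈ oGroup, IsIso m x := fun x hx => by
      obtain ⟨h, -, rfl⟩ := hlift₀ x hx
      exact hiso h
    rintro x (hx | hx)
    · exact hsub x hx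
    · have := IsIso.mul (m := m) (f := refl8 3) ⟨refl_three_add, refl_three_q m⟩ (hsub _ hx)
      rwa [← mul_assoc, refl_sq, one_mul] at this
  -- the plane and the low part
  have hplane : ∀ (g : C) (k : Fin 4), ∃ l, ρ g (planeV k) = planeV l := by
    intro g k
    refine plane_of_mod _ ?_
    have hfix : ∀ r, IsRefVec r → refl8 3 (refl8 r (ρ g (planeV k))) = ρ g (planeV k) := by
      intro r hr
      obtain ⟨h, hh, e⟩ := hlift₀ _ (pair_mem refl_vecs.1 hr)
      have hh' : ((g⁻¹ * h * g⁻¹⁻¹ : C) : G) ∈ H₀ := S.conj_H₀ _ (g⁻¹ : C).2 _ hh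
      have e2 := (oGroup_high (memo _ hh') 0).2 k
      rw [← Equiv.Perm.mul_apply (refl8 3), ← e]
      conv_rhs => rw [← e2]
      rw [← Equiv.Perm.mul_apply, ← Equiv.Perm.mul_apply, ← map_mul, ← map_mul]
      congr 2
      group
    obtain ⟨-, a1, a2, a3, a4, a5, a6⟩ := refl_vecs
    exact fix_plane _ (hfix _ a1) (hfix _ a2) (hfix _ a3) (hfix _ a4) (hfix _ a5) (hfix _ a6)
  have hlow : ∀ (g : C) (v : V), v.val < 64 → (ρ g v).val < 64 := by
    intro g v hv
    have hp : ∀ k, pol8 m (ρ g v) (planeV k) = false := fun k => by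
      obtain ⟨l, hl⟩ := hplane g⁻¹ k
      have : ρ g (planeV l) = planeV k := by
        rw [← hl, ← Equiv.Perm.mul_apply, ← map_mul, mul_inv_cancel, map_one]; rfl
      rw [← this, (hiso g).pol]
      exact pol_low_plane m l v hv
    exact (low_iff m _).mpr ⟨hp 1, hp 2⟩
  -- an element centralising the inner part modulo the core is inner
  have hin : ∀ g : C, (∀ v : V, v.val < 64 → ρ g v = v) → (g : G) ∈ H₀ := by
    intro g hfix
    refine S.inner g g.2 fun h hh => ?_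
    set h' : C := ⟨h, S.le_cent hh⟩
    have hcm : ρ g * ρ h' = ρ h' * ρ g := Equiv.ext fun v => by
      obtain ⟨e, hl, k, hk⟩ := lowhigh v
      obtain ⟨l, hl'⟩ := hplane g k
      have ho := memo h' hh
      rw [e, Equiv.Perm.mul_apply, Equiv.Perm.mul_apply, (hiso h').add, (hiso g).add, hk,
        (oGroup_high ho 0).2 k, (hiso g).add, hl', hfix _ (oGroup_low ho hl), hfix _ hl,
        (hiso h').add, (oGroup_high ho 0).2 l]
    have h3 : ρ (g * h' * g⁻¹ * h'⁻¹) = 1 := by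
      rw [map_mul, map_mul, map_mul, map_inv, map_inv, hcm]
      group
    exact (ker₀ _ (H₀.mul_mem (S.conj_H₀ _ g.2 _ hh) (H₀.inv_mem hh))).mp h3
  have ρ_ker : ∀ g : C, ρ g = 1 ↔ (g : G) ∈ J := fun g =>
    ⟨fun e => (ker₀ g (hin g fun v _ => by rw [e]; rfl)).mp e,
      fun hg => (ker₀ g (S.J_le hg)).mpr hg⟩
  -- an outer element
  obtain ⟨g, hg⟩ : ∃ g : C, (g : G) ∉ H₀ := by
    by_contra hno
    push Not at hno
    have := Subgroup.card_le_of_le (show C ≤ H₀ from fun x hx => hno ⟨x, hx⟩)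
    rw [S.card_cent, S.card_H₀] at this
    norm_num at this
  obtain ⟨w, hw, hwfix⟩ := exists_good hgood (hiso g) (hlow g)
  obtain ⟨o, ho, hov⟩ : ∃ o : C, (o : G) ∉ H₀ ∧ ∀ v : V, v.val < 64 → ρ o v = refl8 3 v := by
    rcases hw with hw | hw
    · obtain ⟨h, hh, e⟩ := hlift₀ w hw
      exfalso
      refine hg ?_
      have := hin (h * g) fun v hv => by rw [map_mul, e]; exact hwfix v hv
      exact (Subgroup.mul_mem_cancel_left H₀ hh).mp this
    · obtain ⟨h, hh, e⟩ := hlift₀ _ hw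
      refine ⟨h * g, fun h2 => hg ((Subgroup.mul_mem_cancel_left H₀ hh).mp h2), fun v hv => ?_⟩
      rw [map_mul, e]
      exact congrArg (refl8 3) (hwfix v hv)
  -- homomorphisms to a group of order two
  have hperf : ∀ f : ↥H₀ →* ℤˣ, (∀ p : ↥H₀, (p : G) ∈ J → f p = 1) → f = 1 := fun f hf => by
    have := S.simple_psp
    have hker : π.ker ≤ f.ker := fun x hx => hf x ((S.π_ker x).mp hx)
    set f' : Cfsg.PSp 2 F →* ℤˣ := MonoidHom.liftOfSurjective π S.π_surj ⟨f, hker⟩ with hf'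
    have h1 : f'.ker = ⊤ := by
      refine (IsSimpleGroup.eq_bot_or_eq_top_of_normal f'.ker
        (MonoidHom.normal_ker f')).resolve_left fun h => ?_
      have := Nat.card_le_card_of_injective f' ((MonoidHom.ker_eq_bot_iff f').mp h)
      rw [S.card_psp, Nat.card_eq_fintype_card, Fintype.card_units_int] at this
      omega
    refine MonoidHom.ext fun x => ?_
    have h2 : f' (π x) = 1 := MonoidHom.mem_ker.mp (h1 ▸ Subgroup.mem_top _)
    rw [hf', MonoidHom.liftOfRightInverse_comp_apply] at h2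
    exact h2
  refine ⟨m, φ, ρ, ?_⟩
  exact
    { sq := S.sq
      ne_one := S.ne_one
      a_sq := S.a_sq
      a_out := S.a_out
      le_cent := S.le_cent
      J_le := S.J_le
      z_mem := S.z_mem
      a_mem := S.a_mem
      a_H₀ := S.a_H₀
      conj_a := S.conj_a
      card_J := S.card_J
      card_H₀ := S.card_H₀
      card_cent := S.card_cent
      conj_mem := S.conj_mem
      conj_H₀ := S.conj_H₀
      φ_mul := φ_mul
      φ_surj := fun v => ⟨lift v, hlift v, hlφ v⟩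
      φ_ker := φ_ker
      φ_sq := φ_sq
      φ_comm := φ_comm
      ρ_φ := ρ_φ
      ρ_ker := ρ_ker
      range₀ := range₀
      plane := fun g v hv => by
        obtain ⟨k, rfl⟩ := plane_of_mod v hv
        obtain ⟨l, hl⟩ := hplane g k
        rw [hl]
        exact plane_mod l
      perfect := hperf
      outer := ⟨o, ho, hov⟩
      not_conj := ⟨fun h => by
          obtain ⟨g, hg⟩ := isConj_iff.1 h
          exact H38.Fi22C.not_conj_za S g hg,
        fun h => by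
          obtain ⟨g, hg⟩ := isConj_iff.1 h
          exact H38.Fi22C.not_conj_zaz S g hg⟩
      dead := ⟨hda, hdaz⟩ }

end H35.Fi22C
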