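import Cfsg.Agent.H64.Fi22C.Basic

/-!
S3232 with two fixed dimensions: if the conjugates of `z` commuting with it lie in the inner half,
none other than `z` lies in the core.
-/

set_option autoImplicit false
set_option maxRecDepth 100000
set_option linter.unusedSectionVars false

namespace H35.Fi22C

open H38.U6C H18.U6C H64.Fi22C
open Subgroup (centralizer mem_centralizer_singleton_iff)

/-- The rows of the table as pairs of lines through the same vector. -/
theorem row_spec : ∀ d : Fin 64, ∀ e ∈ H64.Fi22C.stabTab.getD d.val [],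
    (e.2.1 ≠ e.2.2 ∧ e.2.1 ≠ vadd e.1 e.2.2 ∧ vadd e.1 e.2.1 ≠ e.2.2 ∧
      vadd e.1 e.2.1 ≠ vadd e.1 e.2.2) ∧
    ∀ b ∈ [e.2.1, e.2.2],
      refl8 e.1 (refl8 b e.1) = b ∧ refl8 e.1 (refl8 b (vadd e.1 b)) = e.1 ∧
      refl8 e.1 (refl8 b b) = vadd e.1 b ∧
      ∀ i : Fin 8, refFun e.1 (refFun b (refFun e.1 (refFun b (refFun e.1 (refFun b
        ⟨2 ^ i.val % 256, Nat.mod_lt _ (by norm_num)⟩))))) =
        ⟨2 ^ i.val % 256, Nat.mod_lt _ (by norm_num)⟩ := by
  decide +kernel

/-- The product of two reflections moves a vector within their span. -/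
theorem refl_im (p b v : V) : vadd (refl8 p (refl8 b v)) v ∈ [0, p, b, vadd p b] := by
  show vadd (refFun p (refFun b v)) v ∈ _
  simp only [List.mem_cons, List.not_mem_nil, or_false]
  unfold refFun
  split_ifs
  all_goals first
    | exact Or.inl (H18.U6C.vadd_self v)
    | exact Or.inr (Or.inl (by rw [H18.U6C.vadd_comm (vadd v p), H18.U6C.vadd_cancel]))
    | exact Or.inr (Or.inr (Or.inl (by rw [H18.U6C.vadd_comm (vadd v b), H18.U6C.vadd_cancel])))
    | exact Or.inr (Or.inr (Or.inr (by
        rw [H18.U6C.vadd_comm (vadd (vadd v b) p), H18.U6C.vadd_assoc v, H18.U6C.vadd_cancel,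
          H18.U6C.vadd_comm b])))

theorem refl_zero : ∀ p : V, refl8 p 0 = 0 := by decide +kernel

theorem pol6_low : ∀ p : Fin 64, ∀ v : V, pol6 (lv p) v = pol6 (lv p) (lv (lo v)) := by
  decide +kernel

theorem low_plane : ∀ s : Fin 64, ∀ k : Fin 4,
    lo (vadd (lv s) (hv k)) = s ∧ hi (vadd (lv s) (hv k)) = k ∧ (hv k).val % 64 = 0 := by
  decide +kernel

theorem sums_mem {p : V → Prop} (h0 : p 0) (hadd : ∀ a b, p a → p b → p (vadd a b)) :
    ∀ l : List V, (∀ a ∈ l, p a) → ∀ s ∈ sums l, p s := by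
  intro l
  induction l with
  | nil => intro _ s hs; rw [sums, List.mem_singleton] at hs; exact hs ▸ h0
  | cons a l ih =>
    intro hl s hs
    have hl' : ∀ b ∈ l, p b := fun b hb => hl b (List.mem_cons_of_mem a hb)
    rw [sums, List.mem_append] at hs
    rcases hs with hs | hs
    · exact ih hl' s hs
    · obtain ⟨s', hs', rfl⟩ := List.mem_map.1 hs
      exact hadd _ _ (hl a (List.mem_cons_self ..)) (ih hl' s' hs')

variable {G : Type*} [Group G] {z a : G} {J H₀ : Subgroup G} {m : Bool} {φ : G → V}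
  {ρ : ↥(centralizer ({z} : Set G)) →* Equiv.Perm V}

theorem flip_eq (S : FixA z a J H₀ m φ ρ) {q p : G} (hq : q ∈ J) (hp : p ∈ J)
    (h : ¬ Commute q p) : q * p * q⁻¹ = p * z := by
  rw [conj_eq S hq hp, if_pos]
  by_contra hpol
  exact h ((commute_iff S hq hp).mpr (Bool.eq_false_iff.mpr hpol))

/-- Two elements flipped by the same one have product commuting with it. -/
theorem flip_flip (S : FixA z a J H₀ m φ ρ) {q p x : G} (hq : q ∈ J) (hp : p ∈ J) (hx : x ∈ J)
    (h1 : ¬ Commute q p) (h2 : ¬ Commute q x) : Commute q (p * x) := by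
  refine comm_of_conj ?_
  rw [show q * (p * x) * q⁻¹ = q * p * q⁻¹ * (q * x * q⁻¹) by group, flip_eq S hq hp h1,
    flip_eq S hq hx h2, mul_assoc, ← mul_assoc z x, ← (comm_of_mem (J_cent S hx)).eq,
    mul_assoc x, S.sq, mul_one]

/-- An element centralising what an element of the core centralises in it. -/
theorem hyperplane (S : FixA z a J H₀ m φ ρ) {p x : G} (hp : p ∈ J) (hx : x ∈ J)
    (h : ∀ u ∈ J, Commute u x → Commute u p) : InW z a p ∨ InW z a (p * x) := by
  by_cases hall : ∀ u ∈ J, Commute u p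
  · exact Or.inl (centre S hp fun u hu => (hall u hu).symm)
  push Not at hall
  obtain ⟨q, hq, hqp⟩ := hall
  have hqx : ¬ Commute q x := fun e => hqp (h q hq e)
  have h1 : Commute q (p * x) := flip_flip S hq hp hx hqp hqx
  refine Or.inr (centre S (mul_mem hp hx) fun u hu => ?_)
  by_cases hux : Commute u x
  · exact ((h u hu hux).mul_right hux).symm
  · have hu' : Commute (q⁻¹ * u) x := cent_relIndex S hx hq hu hqx hux
    have h2 := (h _ (mul_mem (inv_mem hq) hu) hu').mul_right hu'
    have h3 := h1.mul_left h2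
    rw [mul_inv_cancel_left] at h3
    exact h3.symm

variable [Finite G]

/-- An element of odd order whose square lies in the inner half lies in it. -/
theorem odd_mem (S : FixA z a J H₀ m φ ρ) {h : G} (hh : h ∈ centralizer ({z} : Set G)) {n : ℕ}
    (hn : Odd n) (h1 : h ^ n = 1) : h ∈ H₀ := by
  obtain ⟨k, rfl⟩ := hn
  have h2 := pow_mem (sq_mem_H₀ S hh) (k + 1)
  rwa [← pow_two, ← pow_mul, show 2 * (k + 1) = 2 * k + 1 + 1 by ring, pow_succ, h1, one_mul] at h2

theorem inW_of_pow (S : FixA z a J H₀ m φ ρ) {w : G} (hw : InW z a w) {n : ℕ} (hn : Odd n)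
    (h1 : w ^ n = 1) : w = 1 := by
  obtain ⟨k, rfl⟩ := hn
  rwa [pow_succ, pow_mul, pow_two, inW_sq S hw, one_pow, one_mul] at h1

/-- An odd power of a lift in the inner half of a permutation fixing `φ x` centralises `x`. -/
theorem odd_fixer (S : FixA z a J H₀ m φ ρ) {x : G} (hx : x ∈ J) {s : Equiv.Perm V}
    (hs : s ∈ oGroup) (hfix : s (φ x) = φ x) (h3 : s * s * s = 1) :
    ∃ h ∈ H₀, Commute h x ∧ (∃ n, Odd n ∧ h ^ n = 1) ∧
      ∀ hh : h ∈ centralizer ({z} : Set G), ∃ M : ℕ, (ρ ⟨h, hh⟩) ^ M = s := by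
  obtain ⟨g, hg, hgs⟩ := oGroup_act S hs
  obtain ⟨k, o, hodd, ho⟩ := Nat.exists_eq_two_pow_mul_odd (orderOf_pos (g : G)).ne'
  set h := (g : G) ^ 2 ^ k with hh0
  have hH : h ∈ H₀ := pow_mem hg _
  have hn : h ^ o = 1 := by rw [hh0, ← pow_mul, ← ho, pow_orderOf_eq_one]
  have hρ : ∀ hh : h ∈ centralizer ({z} : Set G), ρ ⟨h, hh⟩ = s ^ 2 ^ k := fun hh => by
    rw [show (⟨h, hh⟩ : ↥(centralizer ({z} : Set G))) = g ^ 2 ^ k from Subtype.ext rfl, map_pow,
      hgs]
  refine ⟨h, hH, ?_, ⟨o, hodd, hn⟩, fun hh => ⟨2 ^ k, ?_⟩⟩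
  · have hfix' : ∀ j : ℕ, (s ^ j) (φ x) = φ x := fun j => by
      induction j with
      | zero => rfl
      | succ j ih => rw [pow_succ, Equiv.Perm.mul_apply, hfix, ih]
    have hC := S.le_cent hH
    obtain ⟨w, hw, he⟩ := φ_eq S hx (S.conj_mem _ hC x hx)
      (by rw [φ_conj S hC hx, hρ hC, hfix'])
    have hcm : Commute w h := inW_comm S hw hH
    have hpow : ∀ j : ℕ, h ^ j * x * (h ^ j)⁻¹ = x * w ^ j := fun j => by
      induction j with
      | zero => simp
      | succ j ih =>
        rw [pow_succ' h, show h * h ^ j * x * (h * h ^ j)⁻¹ = h * (h ^ j * x * (h ^ j)⁻¹) * h⁻¹ by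
          group, ih, show h * (x * w ^ j) * h⁻¹ = h * x * h⁻¹ * (h * w ^ j * h⁻¹) by group, he,
          ← (hcm.pow_left j).eq, mul_inv_cancel_right, pow_succ', mul_assoc]
    have h1 := hpow o
    rw [hn, one_mul, inv_one, mul_one, left_eq_mul] at h1
    exact comm_of_conj (by rw [he, inW_of_pow S hw hodd h1, mul_one])
  · rw [hρ hh, ← pow_mul, ← mul_pow, show 2 * 2 = 3 + 1 from rfl]
    have h4 : ∀ j : ℕ, s ^ ((3 + 1) ^ j) = s := fun j => by
      induction j with
      | zero => rw [pow_zero, pow_one]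
      | succ j ih =>
        rw [pow_succ, pow_mul, ih, pow_succ, show s ^ 3 = s * s * s by simp [pow_succ], h3, one_mul]
    exact h4 k

/-- A permutation commuting with the product of the reflections in `p`, `b` preserves the line. -/
theorem mem_line {r : Equiv.Perm V} {p b : V}
    (hsp : refl8 p (refl8 b (vadd p b)) = p) (hpp : refl8 p (refl8 b p) = b)
    (hpb : refl8 p (refl8 b b) = vadd p b)
    (hadd : ∀ v w, r (vadd v w) = vadd (r v) (r w))
    (hcm : Commute r (refl8 p * refl8 b)) (hp : p ≠ 0) :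
    r p = p ∨ r p = b ∨ r p = vadd p b := by
  have hc : ∀ v, r (refl8 p (refl8 b v)) = refl8 p (refl8 b (r v)) := fun v =>
    DFunLike.congr_fun hcm.eq v
  have h1 : r (vadd p b) ∈ [0, p, b, vadd p b] := by
    have := refl_im p b (r p)
    rwa [← hc, hpp, H18.U6C.vadd_comm (r b) (r p), ← hadd] at this
  have h0 : r 0 = 0 := by
    have := hadd 0 0
    rw [H18.U6C.vadd_self, H18.U6C.vadd_self] at this
    exact this
  have h2 : r p = refl8 p (refl8 b (r (vadd p b))) := by rw [← hc, hsp]
  simp only [List.mem_cons, List.not_mem_nil, or_false] at h1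
  rcases h1 with h1 | h1 | h1 | h1
  · exfalso
    rw [h1] at h2
    rw [refl_zero, refl_zero, ← h0] at h2
    exact hp (r.injective h2)
  · exact Or.inr (Or.inl (by rw [h2, h1, hpp]))
  · exact Or.inr (Or.inr (by rw [h2, h1, hpb]))
  · exact Or.inl (by rw [h2, h1, hsp])

/-- No other conjugate of `z` lies in the core. -/
theorem jcore.{u} : JCoreStmt.{u} := by
  classical
  intro G _ _ z a J H₀ m φ ρ S hin x hx hconj
  by_contra hne
  obtain ⟨g, hg⟩ := isConj_iff.1 hconj
  have hxC : x ∈ centralizer ({z} : Set G) := J_cent S hx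
  have hxH : x ∈ H₀ := S.J_le hx
  have hxW : ¬ InW z a x := by
    rintro (h | h | h | h)
    · exact S.ne_one (conj_eq_one_iff.1 (hg.trans h))
    · exact hne h
    · exact S.not_conj.1 (h ▸ hconj)
    · exact S.not_conj.2 (h ▸ hconj)
  have hx2 : x * x = 1 := by rw [← hg, conj_mul, S.sq, mul_one, mul_inv_cancel]
  -- transport of centralisers
  have hgx : ∀ k : G, Commute k x → g⁻¹ * k * g ∈ centralizer ({z} : Set G) := fun k hk => mem_cent (by
    have := hk.map (MulAut.conj g⁻¹).toMonoidHom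
    rw [← hg] at this
    simpa [mul_assoc] using this)
  have hcomm : ∀ k e : G, Commute (g⁻¹ * k * g) e → Commute k (g * e * g⁻¹) := fun k e hk => by
    simpa [mul_assoc] using hk.map (MulAut.conj g).toMonoidHom
  set a' := g * a * g⁻¹ with ha'
  have hax : g * (a * z) * g⁻¹ = a' * x := by rw [← hg, ha']; group
  have hd1 : H39.Fi22C.Dead x a' := hg ▸ dead_conj g S.dead.1
  have hd2 : H39.Fi22C.Dead x (a' * x) := by
    have := dead_conj g S.dead.2
    rwa [hg, hax] at this
  -- `a'` centralises `z` and `a`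
  have hzx : Commute z x := (comm_of_mem hxC).symm
  have hza' : Commute z a' := by
    refine hcomm z a ((S.a_H₀ _ (hin _ (hgx z hzx) ?_)).symm)
    exact isConj_iff.2 ⟨g⁻¹, by rw [inv_inv]⟩
  have ha'C : a' ∈ centralizer ({z} : Set G) := mem_cent hza'.symm
  have hxa' : Commute x a' := by
    rw [← hg, ha']
    simpa [mul_assoc] using (za_comm S).map (MulAut.conj g).toMonoidHom
  have hxax : Commute x (a' * x) := hxa'.mul_right (Commute.refl x)
  have hle1 : ∀ q ∈ J, Commute q a' → Commute x q := fun q hq h => dead_le S hd1 hxC hxa' hq h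
  have hle2 : ∀ q ∈ J, Commute q (a' * x) → Commute x q := fun q hq h =>
    dead_le S hd2 hxC hxax hq h
  have ha'J : a' ∉ J := fun h => hxW (centre S hx fun q hq => by
    by_contra hqx
    have h1 : ¬ Commute q a' := fun e => hqx (hle1 q hq e)
    exact hqx (hle2 q hq (flip_flip S hq h hx h1 fun e => hqx e.symm)))
  have haa' : Commute a' a := by
    have hxa : Commute a x := S.a_H₀ x hxH
    rcases S.conj_a a' ha'C with h | h
    · exact comm_of_conj h
    exfalso
    have hka := hgx a hxa
    have h3 : a * a' * a⁻¹ = a' ∨ a * a' * a⁻¹ = a' * x := by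
      refine (S.conj_a _ hka).imp (fun e => ?_) (fun e => ?_)
      · exact conj_of_comm (hcomm a a (comm_of_conj e))
      · rw [← hax, ← e, ha']
        group
    have e1 : a' * a * a'⁻¹ * a⁻¹ = z := by
      rw [h, ← (za_comm S).eq, mul_inv_cancel_right]
    rcases h3 with h3 | h3
    · refine S.ne_one ?_
      rw [← e1, show a' * a * a'⁻¹ * a⁻¹ = a' * (a * a' * a⁻¹)⁻¹ by group, h3, mul_inv_cancel]
    · refine hne ?_
      have e2 : a' * x⁻¹ * a'⁻¹ = z := by
        rw [← e1, show a' * a * a'⁻¹ * a⁻¹ = a' * (a * a' * a⁻¹)⁻¹ by group, h3]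
        group
      rw [inv_eq_of_mul_eq_one_right hx2, hxa'.symm.eq, mul_inv_cancel_right] at e2
      exact e2
  have ha'2 : a' * a' = 1 := by rw [ha', conj_mul, S.a_sq, mul_one, mul_inv_cancel]
  by_cases hinner : a' ∈ H₀
  · -- the inner case
    obtain ⟨hr, hr1, hr2⟩ := inner_invol S hinner ha'J ha'2
    obtain ⟨h64, -, -⟩ := invol S hr hr1 hr2
    set r := ρ ⟨a', S.le_cent hinner⟩ with hrdef
    have hadd : ∀ v w, r (vadd v w) = vadd (r v) (r w) := ρ_add S _
    have hrow : ∀ p ∈ (H64.Fi22C.stabTab.getD (lo (φ x)).val []).map Prod.fst, r p = p ∧ p.val < 64 := by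
      intro p hp
      obtain ⟨e, he, rfl⟩ := List.mem_map.1 hp
      obtain ⟨⟨hp1, hb, hc⟩, -, ⟨o1, o2, o3⟩, -, -⟩ := (H64.Fi22C.stab_spec (lo (φ x))).2 e he
      refine ⟨?_, hp1.1⟩
      obtain ⟨⟨n1, n2, n3, n4⟩, hl⟩ := row_spec (lo (φ x)) e he
      have hfix : ∀ v : V, IsRefVec v → pol6 v (lv (lo (φ x))) = false → refl8 v (φ x) = φ x := by
        intro v hv h
        show refFun v (φ x) = φ x
        refine if_neg fun h' => ?_
        have h'' := h'.2
        rw [← lv_of_lt hv.1, pol6_low, lv_of_lt hv.1, h] at h''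
        exact Bool.false_ne_true h''
      have hcm : ∀ b ∈ [e.2.1, e.2.2], IsRefVec b → pol6 b (lv (lo (φ x))) = false →
          Commute r (refl8 e.1 * refl8 b) := by
        intro b hb' hbv hbo
        have hs : refl8 e.1 * refl8 b ∈ oGroup := Subgroup.subset_closure ⟨_, _, hp1, hbv, rfl⟩
        obtain ⟨h, hH, hhx, ⟨n, hn, hn1⟩, hM⟩ := odd_fixer S hx hs
          (by rw [Equiv.Perm.mul_apply, hfix b hbv hbo, hfix _ hp1 o1])
          (Equiv.ext fun v => H64.U6E.ext_add (g := fun w => w)
            (f := ⇑(refl8 e.1 * refl8 b * (refl8 e.1 * refl8 b) * (refl8 e.1 * refl8 b)))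
            (fun u w => by
              obtain ⟨k, -, hk⟩ := oGroup_act S (mul_mem (mul_mem hs hs) hs)
              rw [← hk]
              exact ρ_add S k u w)
            (fun _ _ => rfl) (fun i => (hl b hb').2.2.2 i) v)
        have hk : g⁻¹ * h * g ∈ H₀ := by
          refine odd_mem S (hgx h hhx) hn ?_
          rw [show (g⁻¹ * h * g) ^ n = g⁻¹ * h ^ n * g by
            simpa using (conj_pow (a := g⁻¹) (b := h) (i := n)), hn1]
          group
        have hha' : Commute h a' := hcomm h a (S.a_H₀ _ hk).symm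
        obtain ⟨M, hM'⟩ := hM (S.le_cent hH)
        rw [← hM']
        refine Commute.pow_right ?_ M
        rw [hrdef]
        exact Commute.map (show Commute (⟨a', S.le_cent hinner⟩ : ↥(centralizer ({z} : Set G))) ⟨h, S.le_cent hH⟩ from
          Subtype.ext hha'.symm.eq) ρ
      have hp0 : e.1 ≠ 0 := fun h => by
        have := hp1.2
        rw [h] at this
        exact absurd this (by decide)
      have hline : ∀ b ∈ [e.2.1, e.2.2], IsRefVec b → pol6 b (lv (lo (φ x))) = false →
          r e.1 = e.1 ∨ r e.1 = b ∨ r e.1 = vadd e.1 b := fun b hb' hbv hbo =>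
        mem_line (hl b hb').2.1 (hl b hb').1 (hl b hb').2.2.1 hadd (hcm b hb' hbv hbo) hp0
      rcases hline _ (by simp) hb o2 with h | h | h
      · exact h
      all_goals rcases hline _ (by simp) hc o3 with h' | h' | h'
      all_goals first
        | exact h'
        | exact absurd (h.symm.trans h') n1
        | exact absurd (h.symm.trans h') n2
        | exact absurd (h.symm.trans h') n3
        | exact absurd (h.symm.trans h') n4
    -- more than 64 fixed vectors
    set L := (sums ((H64.Fi22C.stabTab.getD (lo (φ x)).val []).map Prod.fst)).toFinset with hL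
    have hLfix : ∀ s ∈ L, r s = s ∧ s.val < 64 := fun s hs => by
      refine sums_mem (p := fun s => r s = s ∧ s.val < 64) ⟨?_, by decide⟩ ?_ _ hrow s
        (List.mem_toFinset.1 hs)
      · have := hadd 0 0
        rw [H18.U6C.vadd_self, H18.U6C.vadd_self] at this
        exact this
      · intro v w hv hw
        refine ⟨by rw [hadd, hv.1, hw.1], ?_⟩
        rw [H18.U6C.vadd_val]
        exact Nat.xor_lt_two_pow (n := 6) hv.2 hw.2
    have hle : (L ×ˢ (Finset.univ : Finset (Fin 4))).card ≤
        (Finset.univ.filter fun v : V => r v = v).card := by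
      refine Finset.card_le_card_of_injOn (fun e => vadd e.1 (hv e.2)) ?_ ?_
      · rintro ⟨s, k⟩ hsk
        simp only [Finset.coe_product, Set.mem_prod, Finset.mem_coe] at hsk
        simp only [Finset.coe_filter, Finset.mem_univ, true_and, Set.mem_ofPred_eq]
        rw [hadd, (hLfix s hsk.1).1, hrdef, inner_plane S hinner (low_plane 0 k).2.2]
      · rintro ⟨s, k⟩ hsk ⟨s', k'⟩ hsk' he
        simp only [Finset.coe_product, Set.mem_prod, Finset.mem_coe] at hsk hsk'
        simp only at he
        have e1 := low_plane (lo s) k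
        have e2 := low_plane (lo s') k'
        rw [lv_of_lt (hLfix s hsk.1).2] at e1
        rw [lv_of_lt (hLfix s' hsk'.1).2, ← he] at e2
        refine Prod.ext ?_ (e1.2.1.symm.trans e2.2.1)
        show s = s'
        rw [← lv_of_lt (hLfix s hsk.1).2, ← lv_of_lt (hLfix s' hsk'.1).2, e1.1.symm.trans e2.1]
    rw [Finset.card_product, Finset.card_univ, Fintype.card_fin, h64] at hle
    have h17 : 17 ≤ L.card := stab_span (lo (φ x))
    omega
  · -- the outer case: no element exchanges `a` and `az`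
    have hns : ∀ k ∈ centralizer ({z} : Set G), Commute k a := fun k hk => by
      by_cases h : k ∈ H₀
      · exact (S.a_H₀ k h).symm
      · have h1 : a' * k ∈ H₀ :=
          (mul_mem_iff S ha'C hk).2 (iff_of_false hinner h)
        have h2 : k = a'⁻¹ * (a' * k) := (inv_mul_cancel_left a' k).symm
        rw [h2]
        exact haa'.inv_left.mul_left (S.a_H₀ _ h1).symm
    have hcent : ∀ u ∈ J, Commute u x → Commute u a' := fun u _ hux =>
      hcomm u a (hns _ (hgx u hux))
    refine ha'J ((S.ρ_ker ⟨a', ha'C⟩).1 (Equiv.ext fun v => ?_))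
    obtain ⟨q, hq, rfl⟩ := S.φ_surj v
    rw [Equiv.Perm.one_apply]
    by_cases hqx : Commute q x
    · exact ρ_fix S ha'C hq (hcent q hq hqx).symm
    set p := a' * q * a'⁻¹ * q⁻¹ with hp'
    have hp : p ∈ J := mul_mem (S.conj_mem _ ha'C q hq) (inv_mem hq)
    have hφp : φ p = vadd (ρ ⟨a', ha'C⟩ (φ q)) (φ q) := by
      rw [S.φ_mul _ (S.conj_mem _ ha'C q hq) _ (inv_mem hq), φ_inv S hq, φ_conj S ha'C hq]
    have hpu : ∀ u ∈ J, Commute u x → Commute u p := by
      intro u hu hux
      have hua := hcent u hu hux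
      have hqu := conj_eq S hq hu
      set c : G := if pol8 m (φ q) (φ u) = true then z else 1 with hc
      have hcC : ∀ k ∈ centralizer ({z} : Set G), Commute k c := fun k hk => by
        rw [hc]
        split_ifs
        exacts [comm_of_mem hk, Commute.one_right k]
      have e : a' * q * a'⁻¹ * u * (a' * q * a'⁻¹)⁻¹ = u * c := by
        calc a' * q * a'⁻¹ * u * (a' * q * a'⁻¹)⁻¹
            = a' * (q * (a'⁻¹ * u * a') * q⁻¹) * a'⁻¹ := by group
          _ = a' * (u * c) * a'⁻¹ := by
            rw [mul_assoc a'⁻¹, hua.eq, inv_mul_cancel_left, hqu]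
          _ = a' * u * a'⁻¹ * (a' * c * a'⁻¹) := by group
          _ = u * c := by rw [conj_of_comm hua.symm, conj_of_comm (hcC a' ha'C)]
      have e2 : p * (u * c) * p⁻¹ = u * c := by
        rw [show p * (u * c) * p⁻¹ =
          a' * q * a'⁻¹ * (q⁻¹ * (u * c) * q) * (a' * q * a'⁻¹)⁻¹ by rw [hp']; group, ← hqu,
          show q⁻¹ * (q * u * q⁻¹) * q = u by group, e, hqu]
      have h3 : Commute p c := hcC p (J_cent S hp)
      have h4 : p * u * p⁻¹ = u := by
        rw [show p * (u * c) * p⁻¹ = p * u * p⁻¹ * (p * c * p⁻¹) by group, conj_of_comm h3] at e2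
        exact mul_right_cancel e2
      exact (comm_of_conj h4).symm
    rcases hyperplane S hp hx hpu with h | h
    · exact H18.U6C.vadd_eq_zero (hφp ▸ φ_inW S h)
    · exfalso
      have h0 := φ_inW S h
      rw [S.φ_mul p hp x hx] at h0
      have he : ρ ⟨a', ha'C⟩ (φ q) = vadd (φ q) (φ x) := by
        have h5 := H18.U6C.vadd_eq_zero h0
        rw [hφp] at h5
        rw [← h5, H18.U6C.vadd_comm (ρ ⟨a', ha'C⟩ (φ q)), H18.U6C.vadd_cancel]
      have hqd : q8 m (φ x) = false := by
        cases h6 : q8 m (φ x)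
        · rfl
        · have := S.φ_sq x hx
          rw [h6, if_pos rfl, hx2] at this
          exact absurd this.symm S.ne_one
      have h7 := ρ_q S ⟨a', ha'C⟩ (φ q)
      have h8 : pol8 m (φ q) (φ x) = true := by
        by_contra h9
        exact hqx ((commute_iff S hq hx).2 (Bool.eq_false_iff.2 h9))
      rw [he] at h7
      unfold pol8 at h8
      rw [h7, hqd] at h8
      simp at h8

end H35.Fi22C
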